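import Cfsg.Agent.J4Maximal.Data43.Nodes0
import Cfsg.Agent.J4Maximal.Data43.Nodes1
import Cfsg.Agent.J4Maximal.Data43.Nodes2
import Cfsg.Agent.J4Maximal.Data43.Nodes3
import Cfsg.Agent.J4Maximal.Data43.Nodes4
import Cfsg.Agent.J4Maximal.Data43.Nodes5
import Cfsg.Agent.J4Maximal.Data43.Nodes6
import Cfsg.Agent.J4Maximal.Data43.Nodes7
import Cfsg.Agent.J4Maximal.Data43.Nodes8

/-!
The table of the nodes and how they arise.
-/

set_option autoImplicit false
set_option maxRecDepth 8000

namespace Cfsg.Lib.J4Maximal.P43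

open Cfsg.Lib.J4Cert

def ndTree0 : Tr (List ℕ) := .node (.leaf nd0) (.leaf nd512)

def ndTree1 : Tr (List ℕ) := .node ndTree0 (.leaf nd256)

def ndTree2 : Tr (List ℕ) := .node (.leaf nd128) (.leaf nd640)

def ndTree3 : Tr (List ℕ) := .node ndTree2 (.leaf nd384)

def ndTree4 : Tr (List ℕ) := .node ndTree1 ndTree3

def ndTree5 : Tr (List ℕ) := .node (.leaf nd64) (.leaf nd576)

def ndTree6 : Tr (List ℕ) := .node ndTree5 (.leaf nd320)

def ndTree7 : Tr (List ℕ) := .node (.leaf nd192) (.leaf nd448)

def ndTree8 : Tr (List ℕ) := .node ndTree6 ndTree7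

def ndTree9 : Tr (List ℕ) := .node ndTree4 ndTree8

def ndTree10 : Tr (List ℕ) := .node (.leaf nd32) (.leaf nd544)

def ndTree11 : Tr (List ℕ) := .node ndTree10 (.leaf nd288)

def ndTree12 : Tr (List ℕ) := .node (.leaf nd160) (.leaf nd416)

def ndTree13 : Tr (List ℕ) := .node ndTree11 ndTree12

def ndTree14 : Tr (List ℕ) := .node (.leaf nd96) (.leaf nd608)

def ndTree15 : Tr (List ℕ) := .node ndTree14 (.leaf nd352)

def ndTree16 : Tr (List ℕ) := .node (.leaf nd224) (.leaf nd480)

def ndTree17 : Tr (List ℕ) := .node ndTree15 ndTree16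

def ndTree18 : Tr (List ℕ) := .node ndTree13 ndTree17

def ndTree19 : Tr (List ℕ) := .node ndTree9 ndTree18

def ndTree20 : Tr (List ℕ) := .node (.leaf nd16) (.leaf nd528)

def ndTree21 : Tr (List ℕ) := .node ndTree20 (.leaf nd272)

def ndTree22 : Tr (List ℕ) := .node (.leaf nd144) (.leaf nd400)

def ndTree23 : Tr (List ℕ) := .node ndTree21 ndTree22

def ndTree24 : Tr (List ℕ) := .node (.leaf nd80) (.leaf nd592)

def ndTree25 : Tr (List ℕ) := .node ndTree24 (.leaf nd336)

def ndTree26 : Tr (List ℕ) := .node (.leaf nd208) (.leaf nd464)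

def ndTree27 : Tr (List ℕ) := .node ndTree25 ndTree26

def ndTree28 : Tr (List ℕ) := .node ndTree23 ndTree27

def ndTree29 : Tr (List ℕ) := .node (.leaf nd48) (.leaf nd560)

def ndTree30 : Tr (List ℕ) := .node ndTree29 (.leaf nd304)

def ndTree31 : Tr (List ℕ) := .node (.leaf nd176) (.leaf nd432)

def ndTree32 : Tr (List ℕ) := .node ndTree30 ndTree31

def ndTree33 : Tr (List ℕ) := .node (.leaf nd112) (.leaf nd624)

def ndTree34 : Tr (List ℕ) := .node ndTree33 (.leaf nd368)

def ndTree35 : Tr (List ℕ) := .node (.leaf nd240) (.leaf nd496)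

def ndTree36 : Tr (List ℕ) := .node ndTree34 ndTree35

def ndTree37 : Tr (List ℕ) := .node ndTree32 ndTree36

def ndTree38 : Tr (List ℕ) := .node ndTree28 ndTree37

def ndTree39 : Tr (List ℕ) := .node ndTree19 ndTree38

def ndTree40 : Tr (List ℕ) := .node (.leaf nd8) (.leaf nd520)

def ndTree41 : Tr (List ℕ) := .node ndTree40 (.leaf nd264)

def ndTree42 : Tr (List ℕ) := .node (.leaf nd136) (.leaf nd392)

def ndTree43 : Tr (List ℕ) := .node ndTree41 ndTree42

def ndTree44 : Tr (List ℕ) := .node (.leaf nd72) (.leaf nd584)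

def ndTree45 : Tr (List ℕ) := .node ndTree44 (.leaf nd328)

def ndTree46 : Tr (List ℕ) := .node (.leaf nd200) (.leaf nd456)

def ndTree47 : Tr (List ℕ) := .node ndTree45 ndTree46

def ndTree48 : Tr (List ℕ) := .node ndTree43 ndTree47

def ndTree49 : Tr (List ℕ) := .node (.leaf nd40) (.leaf nd552)

def ndTree50 : Tr (List ℕ) := .node ndTree49 (.leaf nd296)

def ndTree51 : Tr (List ℕ) := .node (.leaf nd168) (.leaf nd424)

def ndTree52 : Tr (List ℕ) := .node ndTree50 ndTree51

def ndTree53 : Tr (List ℕ) := .node (.leaf nd104) (.leaf nd616)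

def ndTree54 : Tr (List ℕ) := .node ndTree53 (.leaf nd360)

def ndTree55 : Tr (List ℕ) := .node (.leaf nd232) (.leaf nd488)

def ndTree56 : Tr (List ℕ) := .node ndTree54 ndTree55

def ndTree57 : Tr (List ℕ) := .node ndTree52 ndTree56

def ndTree58 : Tr (List ℕ) := .node ndTree48 ndTree57

def ndTree59 : Tr (List ℕ) := .node (.leaf nd24) (.leaf nd536)

def ndTree60 : Tr (List ℕ) := .node ndTree59 (.leaf nd280)

def ndTree61 : Tr (List ℕ) := .node (.leaf nd152) (.leaf nd408)

def ndTree62 : Tr (List ℕ) := .node ndTree60 ndTree61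

def ndTree63 : Tr (List ℕ) := .node (.leaf nd88) (.leaf nd600)

def ndTree64 : Tr (List ℕ) := .node ndTree63 (.leaf nd344)

def ndTree65 : Tr (List ℕ) := .node (.leaf nd216) (.leaf nd472)

def ndTree66 : Tr (List ℕ) := .node ndTree64 ndTree65

def ndTree67 : Tr (List ℕ) := .node ndTree62 ndTree66

def ndTree68 : Tr (List ℕ) := .node (.leaf nd56) (.leaf nd568)

def ndTree69 : Tr (List ℕ) := .node ndTree68 (.leaf nd312)

def ndTree70 : Tr (List ℕ) := .node (.leaf nd184) (.leaf nd440)

def ndTree71 : Tr (List ℕ) := .node ndTree69 ndTree70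

def ndTree72 : Tr (List ℕ) := .node (.leaf nd120) (.leaf nd632)

def ndTree73 : Tr (List ℕ) := .node ndTree72 (.leaf nd376)

def ndTree74 : Tr (List ℕ) := .node (.leaf nd248) (.leaf nd504)

def ndTree75 : Tr (List ℕ) := .node ndTree73 ndTree74

def ndTree76 : Tr (List ℕ) := .node ndTree71 ndTree75

def ndTree77 : Tr (List ℕ) := .node ndTree67 ndTree76

def ndTree78 : Tr (List ℕ) := .node ndTree58 ndTree77

def ndTree79 : Tr (List ℕ) := .node ndTree39 ndTree78

def ndTree80 : Tr (List ℕ) := .node (.leaf nd4) (.leaf nd516)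

def ndTree81 : Tr (List ℕ) := .node ndTree80 (.leaf nd260)

def ndTree82 : Tr (List ℕ) := .node (.leaf nd132) (.leaf nd644)

def ndTree83 : Tr (List ℕ) := .node ndTree82 (.leaf nd388)

def ndTree84 : Tr (List ℕ) := .node ndTree81 ndTree83

def ndTree85 : Tr (List ℕ) := .node (.leaf nd68) (.leaf nd580)

def ndTree86 : Tr (List ℕ) := .node ndTree85 (.leaf nd324)

def ndTree87 : Tr (List ℕ) := .node (.leaf nd196) (.leaf nd452)

def ndTree88 : Tr (List ℕ) := .node ndTree86 ndTree87

def ndTree89 : Tr (List ℕ) := .node ndTree84 ndTree88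

def ndTree90 : Tr (List ℕ) := .node (.leaf nd36) (.leaf nd548)

def ndTree91 : Tr (List ℕ) := .node ndTree90 (.leaf nd292)

def ndTree92 : Tr (List ℕ) := .node (.leaf nd164) (.leaf nd420)

def ndTree93 : Tr (List ℕ) := .node ndTree91 ndTree92

def ndTree94 : Tr (List ℕ) := .node (.leaf nd100) (.leaf nd612)

def ndTree95 : Tr (List ℕ) := .node ndTree94 (.leaf nd356)

def ndTree96 : Tr (List ℕ) := .node (.leaf nd228) (.leaf nd484)

def ndTree97 : Tr (List ℕ) := .node ndTree95 ndTree96

def ndTree98 : Tr (List ℕ) := .node ndTree93 ndTree97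

def ndTree99 : Tr (List ℕ) := .node ndTree89 ndTree98

def ndTree100 : Tr (List ℕ) := .node (.leaf nd20) (.leaf nd532)

def ndTree101 : Tr (List ℕ) := .node ndTree100 (.leaf nd276)

def ndTree102 : Tr (List ℕ) := .node (.leaf nd148) (.leaf nd404)

def ndTree103 : Tr (List ℕ) := .node ndTree101 ndTree102

def ndTree104 : Tr (List ℕ) := .node (.leaf nd84) (.leaf nd596)

def ndTree105 : Tr (List ℕ) := .node ndTree104 (.leaf nd340)

def ndTree106 : Tr (List ℕ) := .node (.leaf nd212) (.leaf nd468)

def ndTree107 : Tr (List ℕ) := .node ndTree105 ndTree106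

def ndTree108 : Tr (List ℕ) := .node ndTree103 ndTree107

def ndTree109 : Tr (List ℕ) := .node (.leaf nd52) (.leaf nd564)

def ndTree110 : Tr (List ℕ) := .node ndTree109 (.leaf nd308)

def ndTree111 : Tr (List ℕ) := .node (.leaf nd180) (.leaf nd436)

def ndTree112 : Tr (List ℕ) := .node ndTree110 ndTree111

def ndTree113 : Tr (List ℕ) := .node (.leaf nd116) (.leaf nd628)

def ndTree114 : Tr (List ℕ) := .node ndTree113 (.leaf nd372)

def ndTree115 : Tr (List ℕ) := .node (.leaf nd244) (.leaf nd500)

def ndTree116 : Tr (List ℕ) := .node ndTree114 ndTree115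

def ndTree117 : Tr (List ℕ) := .node ndTree112 ndTree116

def ndTree118 : Tr (List ℕ) := .node ndTree108 ndTree117

def ndTree119 : Tr (List ℕ) := .node ndTree99 ndTree118

def ndTree120 : Tr (List ℕ) := .node (.leaf nd12) (.leaf nd524)

def ndTree121 : Tr (List ℕ) := .node ndTree120 (.leaf nd268)

def ndTree122 : Tr (List ℕ) := .node (.leaf nd140) (.leaf nd396)

def ndTree123 : Tr (List ℕ) := .node ndTree121 ndTree122

def ndTree124 : Tr (List ℕ) := .node (.leaf nd76) (.leaf nd588)

def ndTree125 : Tr (List ℕ) := .node ndTree124 (.leaf nd332)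

def ndTree126 : Tr (List ℕ) := .node (.leaf nd204) (.leaf nd460)

def ndTree127 : Tr (List ℕ) := .node ndTree125 ndTree126

def ndTree128 : Tr (List ℕ) := .node ndTree123 ndTree127

def ndTree129 : Tr (List ℕ) := .node (.leaf nd44) (.leaf nd556)

def ndTree130 : Tr (List ℕ) := .node ndTree129 (.leaf nd300)

def ndTree131 : Tr (List ℕ) := .node (.leaf nd172) (.leaf nd428)

def ndTree132 : Tr (List ℕ) := .node ndTree130 ndTree131

def ndTree133 : Tr (List ℕ) := .node (.leaf nd108) (.leaf nd620)

def ndTree134 : Tr (List ℕ) := .node ndTree133 (.leaf nd364)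

def ndTree135 : Tr (List ℕ) := .node (.leaf nd236) (.leaf nd492)

def ndTree136 : Tr (List ℕ) := .node ndTree134 ndTree135

def ndTree137 : Tr (List ℕ) := .node ndTree132 ndTree136

def ndTree138 : Tr (List ℕ) := .node ndTree128 ndTree137

def ndTree139 : Tr (List ℕ) := .node (.leaf nd28) (.leaf nd540)

def ndTree140 : Tr (List ℕ) := .node ndTree139 (.leaf nd284)

def ndTree141 : Tr (List ℕ) := .node (.leaf nd156) (.leaf nd412)

def ndTree142 : Tr (List ℕ) := .node ndTree140 ndTree141

def ndTree143 : Tr (List ℕ) := .node (.leaf nd92) (.leaf nd604)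

def ndTree144 : Tr (List ℕ) := .node ndTree143 (.leaf nd348)

def ndTree145 : Tr (List ℕ) := .node (.leaf nd220) (.leaf nd476)

def ndTree146 : Tr (List ℕ) := .node ndTree144 ndTree145

def ndTree147 : Tr (List ℕ) := .node ndTree142 ndTree146

def ndTree148 : Tr (List ℕ) := .node (.leaf nd60) (.leaf nd572)

def ndTree149 : Tr (List ℕ) := .node ndTree148 (.leaf nd316)

def ndTree150 : Tr (List ℕ) := .node (.leaf nd188) (.leaf nd444)

def ndTree151 : Tr (List ℕ) := .node ndTree149 ndTree150

def ndTree152 : Tr (List ℕ) := .node (.leaf nd124) (.leaf nd636)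

def ndTree153 : Tr (List ℕ) := .node ndTree152 (.leaf nd380)

def ndTree154 : Tr (List ℕ) := .node (.leaf nd252) (.leaf nd508)

def ndTree155 : Tr (List ℕ) := .node ndTree153 ndTree154

def ndTree156 : Tr (List ℕ) := .node ndTree151 ndTree155

def ndTree157 : Tr (List ℕ) := .node ndTree147 ndTree156

def ndTree158 : Tr (List ℕ) := .node ndTree138 ndTree157

def ndTree159 : Tr (List ℕ) := .node ndTree119 ndTree158

def ndTree160 : Tr (List ℕ) := .node ndTree79 ndTree159

def ndTree161 : Tr (List ℕ) := .node (.leaf nd2) (.leaf nd514)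

def ndTree162 : Tr (List ℕ) := .node ndTree161 (.leaf nd258)

def ndTree163 : Tr (List ℕ) := .node (.leaf nd130) (.leaf nd642)

def ndTree164 : Tr (List ℕ) := .node ndTree163 (.leaf nd386)

def ndTree165 : Tr (List ℕ) := .node ndTree162 ndTree164

def ndTree166 : Tr (List ℕ) := .node (.leaf nd66) (.leaf nd578)

def ndTree167 : Tr (List ℕ) := .node ndTree166 (.leaf nd322)

def ndTree168 : Tr (List ℕ) := .node (.leaf nd194) (.leaf nd450)

def ndTree169 : Tr (List ℕ) := .node ndTree167 ndTree168

def ndTree170 : Tr (List ℕ) := .node ndTree165 ndTree169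

def ndTree171 : Tr (List ℕ) := .node (.leaf nd34) (.leaf nd546)

def ndTree172 : Tr (List ℕ) := .node ndTree171 (.leaf nd290)

def ndTree173 : Tr (List ℕ) := .node (.leaf nd162) (.leaf nd418)

def ndTree174 : Tr (List ℕ) := .node ndTree172 ndTree173

def ndTree175 : Tr (List ℕ) := .node (.leaf nd98) (.leaf nd610)

def ndTree176 : Tr (List ℕ) := .node ndTree175 (.leaf nd354)

def ndTree177 : Tr (List ℕ) := .node (.leaf nd226) (.leaf nd482)

def ndTree178 : Tr (List ℕ) := .node ndTree176 ndTree177

def ndTree179 : Tr (List ℕ) := .node ndTree174 ndTree178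

def ndTree180 : Tr (List ℕ) := .node ndTree170 ndTree179

def ndTree181 : Tr (List ℕ) := .node (.leaf nd18) (.leaf nd530)

def ndTree182 : Tr (List ℕ) := .node ndTree181 (.leaf nd274)

def ndTree183 : Tr (List ℕ) := .node (.leaf nd146) (.leaf nd402)

def ndTree184 : Tr (List ℕ) := .node ndTree182 ndTree183

def ndTree185 : Tr (List ℕ) := .node (.leaf nd82) (.leaf nd594)

def ndTree186 : Tr (List ℕ) := .node ndTree185 (.leaf nd338)

def ndTree187 : Tr (List ℕ) := .node (.leaf nd210) (.leaf nd466)

def ndTree188 : Tr (List ℕ) := .node ndTree186 ndTree187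

def ndTree189 : Tr (List ℕ) := .node ndTree184 ndTree188

def ndTree190 : Tr (List ℕ) := .node (.leaf nd50) (.leaf nd562)

def ndTree191 : Tr (List ℕ) := .node ndTree190 (.leaf nd306)

def ndTree192 : Tr (List ℕ) := .node (.leaf nd178) (.leaf nd434)

def ndTree193 : Tr (List ℕ) := .node ndTree191 ndTree192

def ndTree194 : Tr (List ℕ) := .node (.leaf nd114) (.leaf nd626)

def ndTree195 : Tr (List ℕ) := .node ndTree194 (.leaf nd370)

def ndTree196 : Tr (List ℕ) := .node (.leaf nd242) (.leaf nd498)

def ndTree197 : Tr (List ℕ) := .node ndTree195 ndTree196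

def ndTree198 : Tr (List ℕ) := .node ndTree193 ndTree197

def ndTree199 : Tr (List ℕ) := .node ndTree189 ndTree198

def ndTree200 : Tr (List ℕ) := .node ndTree180 ndTree199

def ndTree201 : Tr (List ℕ) := .node (.leaf nd10) (.leaf nd522)

def ndTree202 : Tr (List ℕ) := .node ndTree201 (.leaf nd266)

def ndTree203 : Tr (List ℕ) := .node (.leaf nd138) (.leaf nd394)

def ndTree204 : Tr (List ℕ) := .node ndTree202 ndTree203

def ndTree205 : Tr (List ℕ) := .node (.leaf nd74) (.leaf nd586)

def ndTree206 : Tr (List ℕ) := .node ndTree205 (.leaf nd330)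

def ndTree207 : Tr (List ℕ) := .node (.leaf nd202) (.leaf nd458)

def ndTree208 : Tr (List ℕ) := .node ndTree206 ndTree207

def ndTree209 : Tr (List ℕ) := .node ndTree204 ndTree208

def ndTree210 : Tr (List ℕ) := .node (.leaf nd42) (.leaf nd554)

def ndTree211 : Tr (List ℕ) := .node ndTree210 (.leaf nd298)

def ndTree212 : Tr (List ℕ) := .node (.leaf nd170) (.leaf nd426)

def ndTree213 : Tr (List ℕ) := .node ndTree211 ndTree212

def ndTree214 : Tr (List ℕ) := .node (.leaf nd106) (.leaf nd618)

def ndTree215 : Tr (List ℕ) := .node ndTree214 (.leaf nd362)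

def ndTree216 : Tr (List ℕ) := .node (.leaf nd234) (.leaf nd490)

def ndTree217 : Tr (List ℕ) := .node ndTree215 ndTree216

def ndTree218 : Tr (List ℕ) := .node ndTree213 ndTree217

def ndTree219 : Tr (List ℕ) := .node ndTree209 ndTree218

def ndTree220 : Tr (List ℕ) := .node (.leaf nd26) (.leaf nd538)

def ndTree221 : Tr (List ℕ) := .node ndTree220 (.leaf nd282)

def ndTree222 : Tr (List ℕ) := .node (.leaf nd154) (.leaf nd410)

def ndTree223 : Tr (List ℕ) := .node ndTree221 ndTree222

def ndTree224 : Tr (List ℕ) := .node (.leaf nd90) (.leaf nd602)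

def ndTree225 : Tr (List ℕ) := .node ndTree224 (.leaf nd346)

def ndTree226 : Tr (List ℕ) := .node (.leaf nd218) (.leaf nd474)

def ndTree227 : Tr (List ℕ) := .node ndTree225 ndTree226

def ndTree228 : Tr (List ℕ) := .node ndTree223 ndTree227

def ndTree229 : Tr (List ℕ) := .node (.leaf nd58) (.leaf nd570)

def ndTree230 : Tr (List ℕ) := .node ndTree229 (.leaf nd314)

def ndTree231 : Tr (List ℕ) := .node (.leaf nd186) (.leaf nd442)

def ndTree232 : Tr (List ℕ) := .node ndTree230 ndTree231

def ndTree233 : Tr (List ℕ) := .node (.leaf nd122) (.leaf nd634)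

def ndTree234 : Tr (List ℕ) := .node ndTree233 (.leaf nd378)

def ndTree235 : Tr (List ℕ) := .node (.leaf nd250) (.leaf nd506)

def ndTree236 : Tr (List ℕ) := .node ndTree234 ndTree235

def ndTree237 : Tr (List ℕ) := .node ndTree232 ndTree236

def ndTree238 : Tr (List ℕ) := .node ndTree228 ndTree237

def ndTree239 : Tr (List ℕ) := .node ndTree219 ndTree238

def ndTree240 : Tr (List ℕ) := .node ndTree200 ndTree239

def ndTree241 : Tr (List ℕ) := .node (.leaf nd6) (.leaf nd518)

def ndTree242 : Tr (List ℕ) := .node ndTree241 (.leaf nd262)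

def ndTree243 : Tr (List ℕ) := .node (.leaf nd134) (.leaf nd390)

def ndTree244 : Tr (List ℕ) := .node ndTree242 ndTree243

def ndTree245 : Tr (List ℕ) := .node (.leaf nd70) (.leaf nd582)

def ndTree246 : Tr (List ℕ) := .node ndTree245 (.leaf nd326)

def ndTree247 : Tr (List ℕ) := .node (.leaf nd198) (.leaf nd454)

def ndTree248 : Tr (List ℕ) := .node ndTree246 ndTree247

def ndTree249 : Tr (List ℕ) := .node ndTree244 ndTree248

def ndTree250 : Tr (List ℕ) := .node (.leaf nd38) (.leaf nd550)

def ndTree251 : Tr (List ℕ) := .node ndTree250 (.leaf nd294)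

def ndTree252 : Tr (List ℕ) := .node (.leaf nd166) (.leaf nd422)

def ndTree253 : Tr (List ℕ) := .node ndTree251 ndTree252

def ndTree254 : Tr (List ℕ) := .node (.leaf nd102) (.leaf nd614)

def ndTree255 : Tr (List ℕ) := .node ndTree254 (.leaf nd358)

def ndTree256 : Tr (List ℕ) := .node (.leaf nd230) (.leaf nd486)

def ndTree257 : Tr (List ℕ) := .node ndTree255 ndTree256

def ndTree258 : Tr (List ℕ) := .node ndTree253 ndTree257

def ndTree259 : Tr (List ℕ) := .node ndTree249 ndTree258

def ndTree260 : Tr (List ℕ) := .node (.leaf nd22) (.leaf nd534)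

def ndTree261 : Tr (List ℕ) := .node ndTree260 (.leaf nd278)

def ndTree262 : Tr (List ℕ) := .node (.leaf nd150) (.leaf nd406)

def ndTree263 : Tr (List ℕ) := .node ndTree261 ndTree262

def ndTree264 : Tr (List ℕ) := .node (.leaf nd86) (.leaf nd598)

def ndTree265 : Tr (List ℕ) := .node ndTree264 (.leaf nd342)

def ndTree266 : Tr (List ℕ) := .node (.leaf nd214) (.leaf nd470)

def ndTree267 : Tr (List ℕ) := .node ndTree265 ndTree266

def ndTree268 : Tr (List ℕ) := .node ndTree263 ndTree267

def ndTree269 : Tr (List ℕ) := .node (.leaf nd54) (.leaf nd566)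

def ndTree270 : Tr (List ℕ) := .node ndTree269 (.leaf nd310)

def ndTree271 : Tr (List ℕ) := .node (.leaf nd182) (.leaf nd438)

def ndTree272 : Tr (List ℕ) := .node ndTree270 ndTree271

def ndTree273 : Tr (List ℕ) := .node (.leaf nd118) (.leaf nd630)

def ndTree274 : Tr (List ℕ) := .node ndTree273 (.leaf nd374)

def ndTree275 : Tr (List ℕ) := .node (.leaf nd246) (.leaf nd502)

def ndTree276 : Tr (List ℕ) := .node ndTree274 ndTree275

def ndTree277 : Tr (List ℕ) := .node ndTree272 ndTree276

def ndTree278 : Tr (List ℕ) := .node ndTree268 ndTree277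

def ndTree279 : Tr (List ℕ) := .node ndTree259 ndTree278

def ndTree280 : Tr (List ℕ) := .node (.leaf nd14) (.leaf nd526)

def ndTree281 : Tr (List ℕ) := .node ndTree280 (.leaf nd270)

def ndTree282 : Tr (List ℕ) := .node (.leaf nd142) (.leaf nd398)

def ndTree283 : Tr (List ℕ) := .node ndTree281 ndTree282

def ndTree284 : Tr (List ℕ) := .node (.leaf nd78) (.leaf nd590)

def ndTree285 : Tr (List ℕ) := .node ndTree284 (.leaf nd334)

def ndTree286 : Tr (List ℕ) := .node (.leaf nd206) (.leaf nd462)

def ndTree287 : Tr (List ℕ) := .node ndTree285 ndTree286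

def ndTree288 : Tr (List ℕ) := .node ndTree283 ndTree287

def ndTree289 : Tr (List ℕ) := .node (.leaf nd46) (.leaf nd558)

def ndTree290 : Tr (List ℕ) := .node ndTree289 (.leaf nd302)

def ndTree291 : Tr (List ℕ) := .node (.leaf nd174) (.leaf nd430)

def ndTree292 : Tr (List ℕ) := .node ndTree290 ndTree291

def ndTree293 : Tr (List ℕ) := .node (.leaf nd110) (.leaf nd622)

def ndTree294 : Tr (List ℕ) := .node ndTree293 (.leaf nd366)

def ndTree295 : Tr (List ℕ) := .node (.leaf nd238) (.leaf nd494)

def ndTree296 : Tr (List ℕ) := .node ndTree294 ndTree295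

def ndTree297 : Tr (List ℕ) := .node ndTree292 ndTree296

def ndTree298 : Tr (List ℕ) := .node ndTree288 ndTree297

def ndTree299 : Tr (List ℕ) := .node (.leaf nd30) (.leaf nd542)

def ndTree300 : Tr (List ℕ) := .node ndTree299 (.leaf nd286)

def ndTree301 : Tr (List ℕ) := .node (.leaf nd158) (.leaf nd414)

def ndTree302 : Tr (List ℕ) := .node ndTree300 ndTree301

def ndTree303 : Tr (List ℕ) := .node (.leaf nd94) (.leaf nd606)

def ndTree304 : Tr (List ℕ) := .node ndTree303 (.leaf nd350)

def ndTree305 : Tr (List ℕ) := .node (.leaf nd222) (.leaf nd478)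

def ndTree306 : Tr (List ℕ) := .node ndTree304 ndTree305

def ndTree307 : Tr (List ℕ) := .node ndTree302 ndTree306

def ndTree308 : Tr (List ℕ) := .node (.leaf nd62) (.leaf nd574)

def ndTree309 : Tr (List ℕ) := .node ndTree308 (.leaf nd318)

def ndTree310 : Tr (List ℕ) := .node (.leaf nd190) (.leaf nd446)

def ndTree311 : Tr (List ℕ) := .node ndTree309 ndTree310

def ndTree312 : Tr (List ℕ) := .node (.leaf nd126) (.leaf nd638)

def ndTree313 : Tr (List ℕ) := .node ndTree312 (.leaf nd382)

def ndTree314 : Tr (List ℕ) := .node (.leaf nd254) (.leaf nd510)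

def ndTree315 : Tr (List ℕ) := .node ndTree313 ndTree314

def ndTree316 : Tr (List ℕ) := .node ndTree311 ndTree315

def ndTree317 : Tr (List ℕ) := .node ndTree307 ndTree316

def ndTree318 : Tr (List ℕ) := .node ndTree298 ndTree317

def ndTree319 : Tr (List ℕ) := .node ndTree279 ndTree318

def ndTree320 : Tr (List ℕ) := .node ndTree240 ndTree319

def ndTree321 : Tr (List ℕ) := .node ndTree160 ndTree320

def ndTree322 : Tr (List ℕ) := .node (.leaf nd1) (.leaf nd513)

def ndTree323 : Tr (List ℕ) := .node ndTree322 (.leaf nd257)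

def ndTree324 : Tr (List ℕ) := .node (.leaf nd129) (.leaf nd641)

def ndTree325 : Tr (List ℕ) := .node ndTree324 (.leaf nd385)

def ndTree326 : Tr (List ℕ) := .node ndTree323 ndTree325

def ndTree327 : Tr (List ℕ) := .node (.leaf nd65) (.leaf nd577)

def ndTree328 : Tr (List ℕ) := .node ndTree327 (.leaf nd321)

def ndTree329 : Tr (List ℕ) := .node (.leaf nd193) (.leaf nd449)

def ndTree330 : Tr (List ℕ) := .node ndTree328 ndTree329

def ndTree331 : Tr (List ℕ) := .node ndTree326 ndTree330

def ndTree332 : Tr (List ℕ) := .node (.leaf nd33) (.leaf nd545)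

def ndTree333 : Tr (List ℕ) := .node ndTree332 (.leaf nd289)

def ndTree334 : Tr (List ℕ) := .node (.leaf nd161) (.leaf nd417)

def ndTree335 : Tr (List ℕ) := .node ndTree333 ndTree334

def ndTree336 : Tr (List ℕ) := .node (.leaf nd97) (.leaf nd609)

def ndTree337 : Tr (List ℕ) := .node ndTree336 (.leaf nd353)

def ndTree338 : Tr (List ℕ) := .node (.leaf nd225) (.leaf nd481)

def ndTree339 : Tr (List ℕ) := .node ndTree337 ndTree338

def ndTree340 : Tr (List ℕ) := .node ndTree335 ndTree339

def ndTree341 : Tr (List ℕ) := .node ndTree331 ndTree340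

def ndTree342 : Tr (List ℕ) := .node (.leaf nd17) (.leaf nd529)

def ndTree343 : Tr (List ℕ) := .node ndTree342 (.leaf nd273)

def ndTree344 : Tr (List ℕ) := .node (.leaf nd145) (.leaf nd401)

def ndTree345 : Tr (List ℕ) := .node ndTree343 ndTree344

def ndTree346 : Tr (List ℕ) := .node (.leaf nd81) (.leaf nd593)

def ndTree347 : Tr (List ℕ) := .node ndTree346 (.leaf nd337)

def ndTree348 : Tr (List ℕ) := .node (.leaf nd209) (.leaf nd465)

def ndTree349 : Tr (List ℕ) := .node ndTree347 ndTree348

def ndTree350 : Tr (List ℕ) := .node ndTree345 ndTree349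

def ndTree351 : Tr (List ℕ) := .node (.leaf nd49) (.leaf nd561)

def ndTree352 : Tr (List ℕ) := .node ndTree351 (.leaf nd305)

def ndTree353 : Tr (List ℕ) := .node (.leaf nd177) (.leaf nd433)

def ndTree354 : Tr (List ℕ) := .node ndTree352 ndTree353

def ndTree355 : Tr (List ℕ) := .node (.leaf nd113) (.leaf nd625)

def ndTree356 : Tr (List ℕ) := .node ndTree355 (.leaf nd369)

def ndTree357 : Tr (List ℕ) := .node (.leaf nd241) (.leaf nd497)

def ndTree358 : Tr (List ℕ) := .node ndTree356 ndTree357

def ndTree359 : Tr (List ℕ) := .node ndTree354 ndTree358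

def ndTree360 : Tr (List ℕ) := .node ndTree350 ndTree359

def ndTree361 : Tr (List ℕ) := .node ndTree341 ndTree360

def ndTree362 : Tr (List ℕ) := .node (.leaf nd9) (.leaf nd521)

def ndTree363 : Tr (List ℕ) := .node ndTree362 (.leaf nd265)

def ndTree364 : Tr (List ℕ) := .node (.leaf nd137) (.leaf nd393)

def ndTree365 : Tr (List ℕ) := .node ndTree363 ndTree364

def ndTree366 : Tr (List ℕ) := .node (.leaf nd73) (.leaf nd585)

def ndTree367 : Tr (List ℕ) := .node ndTree366 (.leaf nd329)

def ndTree368 : Tr (List ℕ) := .node (.leaf nd201) (.leaf nd457)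

def ndTree369 : Tr (List ℕ) := .node ndTree367 ndTree368

def ndTree370 : Tr (List ℕ) := .node ndTree365 ndTree369

def ndTree371 : Tr (List ℕ) := .node (.leaf nd41) (.leaf nd553)

def ndTree372 : Tr (List ℕ) := .node ndTree371 (.leaf nd297)

def ndTree373 : Tr (List ℕ) := .node (.leaf nd169) (.leaf nd425)

def ndTree374 : Tr (List ℕ) := .node ndTree372 ndTree373

def ndTree375 : Tr (List ℕ) := .node (.leaf nd105) (.leaf nd617)

def ndTree376 : Tr (List ℕ) := .node ndTree375 (.leaf nd361)

def ndTree377 : Tr (List ℕ) := .node (.leaf nd233) (.leaf nd489)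

def ndTree378 : Tr (List ℕ) := .node ndTree376 ndTree377

def ndTree379 : Tr (List ℕ) := .node ndTree374 ndTree378

def ndTree380 : Tr (List ℕ) := .node ndTree370 ndTree379

def ndTree381 : Tr (List ℕ) := .node (.leaf nd25) (.leaf nd537)

def ndTree382 : Tr (List ℕ) := .node ndTree381 (.leaf nd281)

def ndTree383 : Tr (List ℕ) := .node (.leaf nd153) (.leaf nd409)

def ndTree384 : Tr (List ℕ) := .node ndTree382 ndTree383

def ndTree385 : Tr (List ℕ) := .node (.leaf nd89) (.leaf nd601)

def ndTree386 : Tr (List ℕ) := .node ndTree385 (.leaf nd345)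

def ndTree387 : Tr (List ℕ) := .node (.leaf nd217) (.leaf nd473)

def ndTree388 : Tr (List ℕ) := .node ndTree386 ndTree387

def ndTree389 : Tr (List ℕ) := .node ndTree384 ndTree388

def ndTree390 : Tr (List ℕ) := .node (.leaf nd57) (.leaf nd569)

def ndTree391 : Tr (List ℕ) := .node ndTree390 (.leaf nd313)

def ndTree392 : Tr (List ℕ) := .node (.leaf nd185) (.leaf nd441)

def ndTree393 : Tr (List ℕ) := .node ndTree391 ndTree392

def ndTree394 : Tr (List ℕ) := .node (.leaf nd121) (.leaf nd633)

def ndTree395 : Tr (List ℕ) := .node ndTree394 (.leaf nd377)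

def ndTree396 : Tr (List ℕ) := .node (.leaf nd249) (.leaf nd505)

def ndTree397 : Tr (List ℕ) := .node ndTree395 ndTree396

def ndTree398 : Tr (List ℕ) := .node ndTree393 ndTree397

def ndTree399 : Tr (List ℕ) := .node ndTree389 ndTree398

def ndTree400 : Tr (List ℕ) := .node ndTree380 ndTree399

def ndTree401 : Tr (List ℕ) := .node ndTree361 ndTree400

def ndTree402 : Tr (List ℕ) := .node (.leaf nd5) (.leaf nd517)

def ndTree403 : Tr (List ℕ) := .node ndTree402 (.leaf nd261)

def ndTree404 : Tr (List ℕ) := .node (.leaf nd133) (.leaf nd389)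

def ndTree405 : Tr (List ℕ) := .node ndTree403 ndTree404

def ndTree406 : Tr (List ℕ) := .node (.leaf nd69) (.leaf nd581)

def ndTree407 : Tr (List ℕ) := .node ndTree406 (.leaf nd325)

def ndTree408 : Tr (List ℕ) := .node (.leaf nd197) (.leaf nd453)

def ndTree409 : Tr (List ℕ) := .node ndTree407 ndTree408

def ndTree410 : Tr (List ℕ) := .node ndTree405 ndTree409

def ndTree411 : Tr (List ℕ) := .node (.leaf nd37) (.leaf nd549)

def ndTree412 : Tr (List ℕ) := .node ndTree411 (.leaf nd293)

def ndTree413 : Tr (List ℕ) := .node (.leaf nd165) (.leaf nd421)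

def ndTree414 : Tr (List ℕ) := .node ndTree412 ndTree413

def ndTree415 : Tr (List ℕ) := .node (.leaf nd101) (.leaf nd613)

def ndTree416 : Tr (List ℕ) := .node ndTree415 (.leaf nd357)

def ndTree417 : Tr (List ℕ) := .node (.leaf nd229) (.leaf nd485)

def ndTree418 : Tr (List ℕ) := .node ndTree416 ndTree417

def ndTree419 : Tr (List ℕ) := .node ndTree414 ndTree418

def ndTree420 : Tr (List ℕ) := .node ndTree410 ndTree419

def ndTree421 : Tr (List ℕ) := .node (.leaf nd21) (.leaf nd533)

def ndTree422 : Tr (List ℕ) := .node ndTree421 (.leaf nd277)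

def ndTree423 : Tr (List ℕ) := .node (.leaf nd149) (.leaf nd405)

def ndTree424 : Tr (List ℕ) := .node ndTree422 ndTree423

def ndTree425 : Tr (List ℕ) := .node (.leaf nd85) (.leaf nd597)

def ndTree426 : Tr (List ℕ) := .node ndTree425 (.leaf nd341)

def ndTree427 : Tr (List ℕ) := .node (.leaf nd213) (.leaf nd469)

def ndTree428 : Tr (List ℕ) := .node ndTree426 ndTree427

def ndTree429 : Tr (List ℕ) := .node ndTree424 ndTree428

def ndTree430 : Tr (List ℕ) := .node (.leaf nd53) (.leaf nd565)

def ndTree431 : Tr (List ℕ) := .node ndTree430 (.leaf nd309)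

def ndTree432 : Tr (List ℕ) := .node (.leaf nd181) (.leaf nd437)

def ndTree433 : Tr (List ℕ) := .node ndTree431 ndTree432

def ndTree434 : Tr (List ℕ) := .node (.leaf nd117) (.leaf nd629)

def ndTree435 : Tr (List ℕ) := .node ndTree434 (.leaf nd373)

def ndTree436 : Tr (List ℕ) := .node (.leaf nd245) (.leaf nd501)

def ndTree437 : Tr (List ℕ) := .node ndTree435 ndTree436

def ndTree438 : Tr (List ℕ) := .node ndTree433 ndTree437

def ndTree439 : Tr (List ℕ) := .node ndTree429 ndTree438

def ndTree440 : Tr (List ℕ) := .node ndTree420 ndTree439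

def ndTree441 : Tr (List ℕ) := .node (.leaf nd13) (.leaf nd525)

def ndTree442 : Tr (List ℕ) := .node ndTree441 (.leaf nd269)

def ndTree443 : Tr (List ℕ) := .node (.leaf nd141) (.leaf nd397)

def ndTree444 : Tr (List ℕ) := .node ndTree442 ndTree443

def ndTree445 : Tr (List ℕ) := .node (.leaf nd77) (.leaf nd589)

def ndTree446 : Tr (List ℕ) := .node ndTree445 (.leaf nd333)

def ndTree447 : Tr (List ℕ) := .node (.leaf nd205) (.leaf nd461)

def ndTree448 : Tr (List ℕ) := .node ndTree446 ndTree447

def ndTree449 : Tr (List ℕ) := .node ndTree444 ndTree448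

def ndTree450 : Tr (List ℕ) := .node (.leaf nd45) (.leaf nd557)

def ndTree451 : Tr (List ℕ) := .node ndTree450 (.leaf nd301)

def ndTree452 : Tr (List ℕ) := .node (.leaf nd173) (.leaf nd429)

def ndTree453 : Tr (List ℕ) := .node ndTree451 ndTree452

def ndTree454 : Tr (List ℕ) := .node (.leaf nd109) (.leaf nd621)

def ndTree455 : Tr (List ℕ) := .node ndTree454 (.leaf nd365)

def ndTree456 : Tr (List ℕ) := .node (.leaf nd237) (.leaf nd493)

def ndTree457 : Tr (List ℕ) := .node ndTree455 ndTree456

def ndTree458 : Tr (List ℕ) := .node ndTree453 ndTree457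

def ndTree459 : Tr (List ℕ) := .node ndTree449 ndTree458

def ndTree460 : Tr (List ℕ) := .node (.leaf nd29) (.leaf nd541)

def ndTree461 : Tr (List ℕ) := .node ndTree460 (.leaf nd285)

def ndTree462 : Tr (List ℕ) := .node (.leaf nd157) (.leaf nd413)

def ndTree463 : Tr (List ℕ) := .node ndTree461 ndTree462

def ndTree464 : Tr (List ℕ) := .node (.leaf nd93) (.leaf nd605)

def ndTree465 : Tr (List ℕ) := .node ndTree464 (.leaf nd349)

def ndTree466 : Tr (List ℕ) := .node (.leaf nd221) (.leaf nd477)

def ndTree467 : Tr (List ℕ) := .node ndTree465 ndTree466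

def ndTree468 : Tr (List ℕ) := .node ndTree463 ndTree467

def ndTree469 : Tr (List ℕ) := .node (.leaf nd61) (.leaf nd573)

def ndTree470 : Tr (List ℕ) := .node ndTree469 (.leaf nd317)

def ndTree471 : Tr (List ℕ) := .node (.leaf nd189) (.leaf nd445)

def ndTree472 : Tr (List ℕ) := .node ndTree470 ndTree471

def ndTree473 : Tr (List ℕ) := .node (.leaf nd125) (.leaf nd637)

def ndTree474 : Tr (List ℕ) := .node ndTree473 (.leaf nd381)

def ndTree475 : Tr (List ℕ) := .node (.leaf nd253) (.leaf nd509)

def ndTree476 : Tr (List ℕ) := .node ndTree474 ndTree475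

def ndTree477 : Tr (List ℕ) := .node ndTree472 ndTree476

def ndTree478 : Tr (List ℕ) := .node ndTree468 ndTree477

def ndTree479 : Tr (List ℕ) := .node ndTree459 ndTree478

def ndTree480 : Tr (List ℕ) := .node ndTree440 ndTree479

def ndTree481 : Tr (List ℕ) := .node ndTree401 ndTree480

def ndTree482 : Tr (List ℕ) := .node (.leaf nd3) (.leaf nd515)

def ndTree483 : Tr (List ℕ) := .node ndTree482 (.leaf nd259)

def ndTree484 : Tr (List ℕ) := .node (.leaf nd131) (.leaf nd643)

def ndTree485 : Tr (List ℕ) := .node ndTree484 (.leaf nd387)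

def ndTree486 : Tr (List ℕ) := .node ndTree483 ndTree485

def ndTree487 : Tr (List ℕ) := .node (.leaf nd67) (.leaf nd579)

def ndTree488 : Tr (List ℕ) := .node ndTree487 (.leaf nd323)

def ndTree489 : Tr (List ℕ) := .node (.leaf nd195) (.leaf nd451)

def ndTree490 : Tr (List ℕ) := .node ndTree488 ndTree489

def ndTree491 : Tr (List ℕ) := .node ndTree486 ndTree490

def ndTree492 : Tr (List ℕ) := .node (.leaf nd35) (.leaf nd547)

def ndTree493 : Tr (List ℕ) := .node ndTree492 (.leaf nd291)

def ndTree494 : Tr (List ℕ) := .node (.leaf nd163) (.leaf nd419)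

def ndTree495 : Tr (List ℕ) := .node ndTree493 ndTree494

def ndTree496 : Tr (List ℕ) := .node (.leaf nd99) (.leaf nd611)

def ndTree497 : Tr (List ℕ) := .node ndTree496 (.leaf nd355)

def ndTree498 : Tr (List ℕ) := .node (.leaf nd227) (.leaf nd483)

def ndTree499 : Tr (List ℕ) := .node ndTree497 ndTree498

def ndTree500 : Tr (List ℕ) := .node ndTree495 ndTree499

def ndTree501 : Tr (List ℕ) := .node ndTree491 ndTree500

def ndTree502 : Tr (List ℕ) := .node (.leaf nd19) (.leaf nd531)

def ndTree503 : Tr (List ℕ) := .node ndTree502 (.leaf nd275)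

def ndTree504 : Tr (List ℕ) := .node (.leaf nd147) (.leaf nd403)

def ndTree505 : Tr (List ℕ) := .node ndTree503 ndTree504

def ndTree506 : Tr (List ℕ) := .node (.leaf nd83) (.leaf nd595)

def ndTree507 : Tr (List ℕ) := .node ndTree506 (.leaf nd339)

def ndTree508 : Tr (List ℕ) := .node (.leaf nd211) (.leaf nd467)

def ndTree509 : Tr (List ℕ) := .node ndTree507 ndTree508

def ndTree510 : Tr (List ℕ) := .node ndTree505 ndTree509

def ndTree511 : Tr (List ℕ) := .node (.leaf nd51) (.leaf nd563)

def ndTree512 : Tr (List ℕ) := .node ndTree511 (.leaf nd307)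

def ndTree513 : Tr (List ℕ) := .node (.leaf nd179) (.leaf nd435)

def ndTree514 : Tr (List ℕ) := .node ndTree512 ndTree513

def ndTree515 : Tr (List ℕ) := .node (.leaf nd115) (.leaf nd627)

def ndTree516 : Tr (List ℕ) := .node ndTree515 (.leaf nd371)

def ndTree517 : Tr (List ℕ) := .node (.leaf nd243) (.leaf nd499)

def ndTree518 : Tr (List ℕ) := .node ndTree516 ndTree517

def ndTree519 : Tr (List ℕ) := .node ndTree514 ndTree518

def ndTree520 : Tr (List ℕ) := .node ndTree510 ndTree519

def ndTree521 : Tr (List ℕ) := .node ndTree501 ndTree520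

def ndTree522 : Tr (List ℕ) := .node (.leaf nd11) (.leaf nd523)

def ndTree523 : Tr (List ℕ) := .node ndTree522 (.leaf nd267)

def ndTree524 : Tr (List ℕ) := .node (.leaf nd139) (.leaf nd395)

def ndTree525 : Tr (List ℕ) := .node ndTree523 ndTree524

def ndTree526 : Tr (List ℕ) := .node (.leaf nd75) (.leaf nd587)

def ndTree527 : Tr (List ℕ) := .node ndTree526 (.leaf nd331)

def ndTree528 : Tr (List ℕ) := .node (.leaf nd203) (.leaf nd459)

def ndTree529 : Tr (List ℕ) := .node ndTree527 ndTree528

def ndTree530 : Tr (List ℕ) := .node ndTree525 ndTree529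

def ndTree531 : Tr (List ℕ) := .node (.leaf nd43) (.leaf nd555)

def ndTree532 : Tr (List ℕ) := .node ndTree531 (.leaf nd299)

def ndTree533 : Tr (List ℕ) := .node (.leaf nd171) (.leaf nd427)

def ndTree534 : Tr (List ℕ) := .node ndTree532 ndTree533

def ndTree535 : Tr (List ℕ) := .node (.leaf nd107) (.leaf nd619)

def ndTree536 : Tr (List ℕ) := .node ndTree535 (.leaf nd363)

def ndTree537 : Tr (List ℕ) := .node (.leaf nd235) (.leaf nd491)

def ndTree538 : Tr (List ℕ) := .node ndTree536 ndTree537

def ndTree539 : Tr (List ℕ) := .node ndTree534 ndTree538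

def ndTree540 : Tr (List ℕ) := .node ndTree530 ndTree539

def ndTree541 : Tr (List ℕ) := .node (.leaf nd27) (.leaf nd539)

def ndTree542 : Tr (List ℕ) := .node ndTree541 (.leaf nd283)

def ndTree543 : Tr (List ℕ) := .node (.leaf nd155) (.leaf nd411)

def ndTree544 : Tr (List ℕ) := .node ndTree542 ndTree543

def ndTree545 : Tr (List ℕ) := .node (.leaf nd91) (.leaf nd603)

def ndTree546 : Tr (List ℕ) := .node ndTree545 (.leaf nd347)

def ndTree547 : Tr (List ℕ) := .node (.leaf nd219) (.leaf nd475)

def ndTree548 : Tr (List ℕ) := .node ndTree546 ndTree547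

def ndTree549 : Tr (List ℕ) := .node ndTree544 ndTree548

def ndTree550 : Tr (List ℕ) := .node (.leaf nd59) (.leaf nd571)

def ndTree551 : Tr (List ℕ) := .node ndTree550 (.leaf nd315)

def ndTree552 : Tr (List ℕ) := .node (.leaf nd187) (.leaf nd443)

def ndTree553 : Tr (List ℕ) := .node ndTree551 ndTree552

def ndTree554 : Tr (List ℕ) := .node (.leaf nd123) (.leaf nd635)

def ndTree555 : Tr (List ℕ) := .node ndTree554 (.leaf nd379)

def ndTree556 : Tr (List ℕ) := .node (.leaf nd251) (.leaf nd507)

def ndTree557 : Tr (List ℕ) := .node ndTree555 ndTree556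

def ndTree558 : Tr (List ℕ) := .node ndTree553 ndTree557

def ndTree559 : Tr (List ℕ) := .node ndTree549 ndTree558

def ndTree560 : Tr (List ℕ) := .node ndTree540 ndTree559

def ndTree561 : Tr (List ℕ) := .node ndTree521 ndTree560

def ndTree562 : Tr (List ℕ) := .node (.leaf nd7) (.leaf nd519)

def ndTree563 : Tr (List ℕ) := .node ndTree562 (.leaf nd263)

def ndTree564 : Tr (List ℕ) := .node (.leaf nd135) (.leaf nd391)

def ndTree565 : Tr (List ℕ) := .node ndTree563 ndTree564

def ndTree566 : Tr (List ℕ) := .node (.leaf nd71) (.leaf nd583)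

def ndTree567 : Tr (List ℕ) := .node ndTree566 (.leaf nd327)

def ndTree568 : Tr (List ℕ) := .node (.leaf nd199) (.leaf nd455)

def ndTree569 : Tr (List ℕ) := .node ndTree567 ndTree568

def ndTree570 : Tr (List ℕ) := .node ndTree565 ndTree569

def ndTree571 : Tr (List ℕ) := .node (.leaf nd39) (.leaf nd551)

def ndTree572 : Tr (List ℕ) := .node ndTree571 (.leaf nd295)

def ndTree573 : Tr (List ℕ) := .node (.leaf nd167) (.leaf nd423)

def ndTree574 : Tr (List ℕ) := .node ndTree572 ndTree573

def ndTree575 : Tr (List ℕ) := .node (.leaf nd103) (.leaf nd615)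

def ndTree576 : Tr (List ℕ) := .node ndTree575 (.leaf nd359)

def ndTree577 : Tr (List ℕ) := .node (.leaf nd231) (.leaf nd487)

def ndTree578 : Tr (List ℕ) := .node ndTree576 ndTree577

def ndTree579 : Tr (List ℕ) := .node ndTree574 ndTree578

def ndTree580 : Tr (List ℕ) := .node ndTree570 ndTree579

def ndTree581 : Tr (List ℕ) := .node (.leaf nd23) (.leaf nd535)

def ndTree582 : Tr (List ℕ) := .node ndTree581 (.leaf nd279)

def ndTree583 : Tr (List ℕ) := .node (.leaf nd151) (.leaf nd407)

def ndTree584 : Tr (List ℕ) := .node ndTree582 ndTree583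

def ndTree585 : Tr (List ℕ) := .node (.leaf nd87) (.leaf nd599)

def ndTree586 : Tr (List ℕ) := .node ndTree585 (.leaf nd343)

def ndTree587 : Tr (List ℕ) := .node (.leaf nd215) (.leaf nd471)

def ndTree588 : Tr (List ℕ) := .node ndTree586 ndTree587

def ndTree589 : Tr (List ℕ) := .node ndTree584 ndTree588

def ndTree590 : Tr (List ℕ) := .node (.leaf nd55) (.leaf nd567)

def ndTree591 : Tr (List ℕ) := .node ndTree590 (.leaf nd311)

def ndTree592 : Tr (List ℕ) := .node (.leaf nd183) (.leaf nd439)

def ndTree593 : Tr (List ℕ) := .node ndTree591 ndTree592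

def ndTree594 : Tr (List ℕ) := .node (.leaf nd119) (.leaf nd631)

def ndTree595 : Tr (List ℕ) := .node ndTree594 (.leaf nd375)

def ndTree596 : Tr (List ℕ) := .node (.leaf nd247) (.leaf nd503)

def ndTree597 : Tr (List ℕ) := .node ndTree595 ndTree596

def ndTree598 : Tr (List ℕ) := .node ndTree593 ndTree597

def ndTree599 : Tr (List ℕ) := .node ndTree589 ndTree598

def ndTree600 : Tr (List ℕ) := .node ndTree580 ndTree599

def ndTree601 : Tr (List ℕ) := .node (.leaf nd15) (.leaf nd527)

def ndTree602 : Tr (List ℕ) := .node ndTree601 (.leaf nd271)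

def ndTree603 : Tr (List ℕ) := .node (.leaf nd143) (.leaf nd399)

def ndTree604 : Tr (List ℕ) := .node ndTree602 ndTree603

def ndTree605 : Tr (List ℕ) := .node (.leaf nd79) (.leaf nd591)

def ndTree606 : Tr (List ℕ) := .node ndTree605 (.leaf nd335)

def ndTree607 : Tr (List ℕ) := .node (.leaf nd207) (.leaf nd463)

def ndTree608 : Tr (List ℕ) := .node ndTree606 ndTree607

def ndTree609 : Tr (List ℕ) := .node ndTree604 ndTree608

def ndTree610 : Tr (List ℕ) := .node (.leaf nd47) (.leaf nd559)

def ndTree611 : Tr (List ℕ) := .node ndTree610 (.leaf nd303)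

def ndTree612 : Tr (List ℕ) := .node (.leaf nd175) (.leaf nd431)

def ndTree613 : Tr (List ℕ) := .node ndTree611 ndTree612

def ndTree614 : Tr (List ℕ) := .node (.leaf nd111) (.leaf nd623)

def ndTree615 : Tr (List ℕ) := .node ndTree614 (.leaf nd367)

def ndTree616 : Tr (List ℕ) := .node (.leaf nd239) (.leaf nd495)

def ndTree617 : Tr (List ℕ) := .node ndTree615 ndTree616

def ndTree618 : Tr (List ℕ) := .node ndTree613 ndTree617

def ndTree619 : Tr (List ℕ) := .node ndTree609 ndTree618

def ndTree620 : Tr (List ℕ) := .node (.leaf nd31) (.leaf nd543)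

def ndTree621 : Tr (List ℕ) := .node ndTree620 (.leaf nd287)

def ndTree622 : Tr (List ℕ) := .node (.leaf nd159) (.leaf nd415)

def ndTree623 : Tr (List ℕ) := .node ndTree621 ndTree622

def ndTree624 : Tr (List ℕ) := .node (.leaf nd95) (.leaf nd607)

def ndTree625 : Tr (List ℕ) := .node ndTree624 (.leaf nd351)

def ndTree626 : Tr (List ℕ) := .node (.leaf nd223) (.leaf nd479)

def ndTree627 : Tr (List ℕ) := .node ndTree625 ndTree626

def ndTree628 : Tr (List ℕ) := .node ndTree623 ndTree627

def ndTree629 : Tr (List ℕ) := .node (.leaf nd63) (.leaf nd575)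

def ndTree630 : Tr (List ℕ) := .node ndTree629 (.leaf nd319)

def ndTree631 : Tr (List ℕ) := .node (.leaf nd191) (.leaf nd447)

def ndTree632 : Tr (List ℕ) := .node ndTree630 ndTree631

def ndTree633 : Tr (List ℕ) := .node (.leaf nd127) (.leaf nd639)

def ndTree634 : Tr (List ℕ) := .node ndTree633 (.leaf nd383)

def ndTree635 : Tr (List ℕ) := .node (.leaf nd255) (.leaf nd511)

def ndTree636 : Tr (List ℕ) := .node ndTree634 ndTree635

def ndTree637 : Tr (List ℕ) := .node ndTree632 ndTree636

def ndTree638 : Tr (List ℕ) := .node ndTree628 ndTree637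

def ndTree639 : Tr (List ℕ) := .node ndTree619 ndTree638

def ndTree640 : Tr (List ℕ) := .node ndTree600 ndTree639

def ndTree641 : Tr (List ℕ) := .node ndTree561 ndTree640

def ndTree642 : Tr (List ℕ) := .node ndTree481 ndTree641

def ndTree643 : Tr (List ℕ) := .node ndTree321 ndTree642

/-- The table of the nodes. -/
def ndTab : Tr (List ℕ) := ndTree643

/-- The products. -/
def ndProg0 : List (ℕ × ℕ) := [(0, 1), (1, 4), (3, 5), (1, 3), (0, 7), (8, 7), (3, 9), (3, 1), (4, 11), (10, 12), (6, 13), (9, 0), (15, 3), (1, 0), (1, 17), (16, 18), (16, 16), (20, 1), (21, 4), (14, 22), (23, 23), (23, 24), (24, 24), (26, 26), (25, 27), (27, 27), (28, 29), (30, 0), (31, 23), (0, 32), (0, 3), (3, 7), (11, 7), (35, 36), (7, 4), (17, 38), (38, 39), (40, 38), (39, 1), (41, 42), (43, 43), (0, 44), (0, 43), (45, 46), (47, 47), (47, 48), (48, 48), (49, 50), (50, 50), (51, 52), (43, 53), (54, 34), (0, 11), (41, 56), (57, 57), (58, 58), (57, 59), (59, 59), (60, 61), (0, 62), (0, 57), (63, 64), (65, 65), (66, 66), (66, 67), (67,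 67), (68, 69), (57, 70), (55, 71), (56, 43), (56, 73), (74, 74), (74, 75), (75, 75), (77, 77), (76, 78), (78, 78), (79, 80), (0, 81), (0, 74)]

/-- The products. -/
def ndProg1 : List (ℕ × ℕ) := [(82, 83), (84, 84), (85, 85), (86, 86), (87, 87), (85, 88), (74, 89), (90, 90), (91, 91), (90, 92), (92, 92), (93, 94), (72, 95), (39, 39), (39, 97), (97, 97), (99, 99), (98, 100), (0, 101), (0, 39), (102, 103), (104, 104), (105, 105), (106, 106), (107, 107), (105, 108), (39, 109), (110, 110), (111, 111), (112, 112), (110, 113), (71, 71), (71, 115), (115, 115), (117, 117), (116, 118), (118, 118), (119, 120), (114, 121), (96, 122), (0, 35), (124, 0), (34, 125), (126, 7), (56, 127), (35, 7), (129, 34), (128, 130), (131, 131), (132, 132), (131, 133), (133, 133), (135, 135), (134, 136), (0, 137), (0, 131), (138, 139), (140, 140), (141, 141), (142, 142), (143, 143), (141, 144), (131, 145), (146, 146), (146, 147), (147, 147), (148, 149), (71, 150), (110, 151), (114, 150), (54, 153), (90, 154), (152, 155), (123, 156), (157, 0),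 (5, 1), (3, 159), (3, 2), (0, 161), (1, 162)]

/-- The products. -/
def ndProg2 : List (ℕ × ℕ) := [(160, 163), (18, 3), (165, 2), (3, 166), (167, 1), (160, 168), (169, 169), (170, 170), (171, 171), (172, 172), (173, 173), (0, 174), (0, 169), (175, 176), (177, 177), (178, 178), (179, 179), (180, 180), (169, 181), (182, 182), (182, 183), (183, 183), (184, 185), (185, 185), (187, 187), (186, 188), (159, 163), (169, 190), (191, 191), (192, 192), (192, 193), (193, 193), (194, 195), (0, 196), (0, 191), (197, 198), (199, 199), (200, 200), (201, 201), (202, 202), (191, 203), (189, 204), (205, 150), (0, 38), (0, 166), (207, 208), (209, 209), (210, 210), (211, 211), (212, 212), (166, 213), (214, 214), (214, 215), (215, 215), (217, 217), (216, 218), (219, 146), (219, 220), (204, 204), (222, 222), (204, 223), (223, 223), (224, 225), (226, 182), (221, 227), (206, 228), (110, 121), (54, 54), (54, 231), (231, 231), (233, 233), (232, 234), (235, 90), (236, 121), (237, 110), (230, 238), (34, 146), (71, 235), (34, 241), (240, 242)]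

/-- The products. -/
def ndProg3 : List (ℕ × ℕ) := [(239, 243), (126, 126), (245, 17), (17, 7), (246, 247), (126, 245), (247, 249), (17, 250), (248, 251), (252, 34), (18, 126), (254, 3), (255, 0), (256, 249), (253, 257), (258, 248), (248, 259), (260, 250), (34, 17), (262, 259), (261, 263), (264, 263), (262, 254), (247, 266), (34, 267), (268, 246), (18, 34), (269, 270), (271, 269), (257, 272), (253, 273), (265, 274), (262, 268), (269, 250), (276, 277), (275, 278), (158, 158), (280, 229), (281, 229), (282, 229), (283, 244), (279, 279), (285, 285), (279, 286), (286, 286), (288, 288), (287, 289), (284, 290), (284, 279), (291, 292), (293, 293), (294, 294), (293, 295), (279, 296), (297, 297), (297, 298), (298, 298), (300, 300), (299, 301), (301, 301), (303, 303), (302, 304), (251, 251), (306, 306), (307, 307), (306, 308), (308, 308), (310, 310), (309, 311), (284, 312), (284, 251), (313, 314), (315, 315), (251, 316), (317, 317), (317, 318), (318, 318), (319, 320), (320, 320), (322, 322)]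

/-- The products. -/
def ndProg4 : List (ℕ × ℕ) := [(323, 323), (321, 324), (305, 325), (253, 0), (327, 278), (328, 263), (329, 329), (329, 330), (330, 330), (331, 332), (332, 332), (334, 334), (333, 335), (284, 336), (284, 329), (337, 338), (339, 339), (340, 340), (339, 341), (329, 342), (343, 343), (343, 344), (344, 344), (346, 346), (345, 347), (326, 348), (278, 279), (34, 263), (351, 327), (265, 279), (352, 353), (263, 354), (350, 355), (277, 278), (357, 278), (259, 260), (358, 359), (356, 360), (361, 361), (362, 362), (363, 363), (364, 364), (365, 365), (363, 366), (284, 367), (284, 361), (368, 369), (370, 370), (361, 371), (372, 372), (373, 373), (372, 374), (374, 374), (375, 376), (377, 325), (252, 252), (379, 379), (252, 380), (380, 380), (382, 382), (381, 383), (284, 384), (284, 252), (385, 386), (387, 387), (388, 388), (387, 389), (252, 390), (391, 391), (392, 392), (391, 393), (393, 393), (394, 395), (378, 396), (349, 397), (275, 275), (399, 399), (400, 400), (401, 401), (402, 402)]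

/-- The products. -/
def ndProg5 : List (ℕ × ℕ) := [(400, 403), (284, 404), (284, 275), (405, 406), (407, 407), (408, 408), (407, 409), (275, 410), (260, 260), (412, 412), (260, 413), (413, 413), (414, 415), (415, 415), (416, 417), (284, 418), (284, 260), (419, 420), (421, 421), (422, 422), (421, 423), (260, 424), (411, 425), (396, 426), (325, 427), (411, 411), (429, 429), (430, 430), (411, 431), (431, 431), (433, 433), (432, 434), (0, 262), (436, 357), (437, 329), (359, 438), (439, 439), (440, 440), (441, 441), (442, 442), (443, 443), (441, 444), (284, 445), (284, 439), (446, 447), (448, 448), (449, 449), (448, 450), (439, 451), (452, 452), (452, 453), (453, 453), (454, 455), (455, 455), (457, 457), (456, 458), (435, 459), (452, 460), (435, 461), (428, 462), (398, 463), (0, 5), (5, 0), (465, 466), (466, 17), (468, 466), (469, 0), (467, 470), (0, 468), (471, 472), (6, 467), (474, 5), (473, 475), (158, 229), (477, 464), (478, 244), (476, 476), (476, 480), (480, 480), (481, 482)]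

/-- The products. -/
def ndProg6 : List (ℕ × ℕ) := [(482, 482), (484, 484), (485, 485), (483, 486), (479, 487), (479, 476), (488, 489), (490, 490), (491, 491), (492, 492), (493, 493), (476, 494), (495, 495), (495, 496), (496, 496), (497, 498), (473, 473), (473, 500), (500, 500), (501, 502), (479, 503), (479, 473), (504, 505), (506, 506), (507, 507), (506, 508), (473, 509), (510, 510), (510, 511), (511, 511), (513, 513), (514, 514), (512, 515), (499, 516), (466, 1), (0, 518), (468, 519), (520, 0), (0, 470), (521, 522), (523, 520), (524, 473), (473, 525), (526, 526), (526, 527), (527, 527), (529, 529), (528, 530), (479, 531), (479, 526), (532, 533), (534, 534), (535, 535), (536, 536), (537, 537), (535, 538), (526, 539), (540, 540), (540, 541), (541, 541), (542, 543), (517, 544), (0, 471), (523, 546), (547, 521), (548, 548), (548, 549), (549, 549), (551, 551), (550, 552), (479, 553), (479, 548), (554, 555), (556, 556), (557, 557), (556, 558), (558, 558), (560, 560), (559, 561), (548, 562)]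

/-- The products. -/
def ndProg7 : List (ℕ × ℕ) := [(563, 563), (564, 564), (565, 565), (563, 566), (545, 567), (546, 546), (569, 569), (570, 570), (571, 571), (570, 572), (479, 573), (479, 546), (574, 575), (576, 576), (576, 577), (577, 577), (578, 579), (579, 579), (580, 581), (546, 582), (583, 583), (584, 584), (583, 585), (547, 547), (587, 587), (547, 588), (588, 588), (589, 590), (479, 591), (479, 547), (592, 593), (594, 594), (595, 595), (595, 596), (596, 596), (597, 598), (547, 599), (586, 600), (472, 472), (472, 602), (602, 602), (604, 604), (603, 605), (479, 606), (479, 472), (607, 608), (609, 609), (610, 610), (609, 611), (611, 611), (613, 613), (612, 614), (472, 615), (601, 616), (617, 499), (618, 540), (568, 619), (465, 470), (465, 520), (622, 524), (621, 623), (624, 624), (625, 625), (624, 626), (479, 627), (479, 624), (628, 629), (630, 630), (631, 631), (632, 632), (633, 633), (624, 634), (635, 635), (636, 636), (635, 637), (637, 637), (638, 639), (516, 640), (510, 635), (641, 642)]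

/-- The products. -/
def ndProg8 : List (ℕ × ℕ) := [(620, 643)]

end Cfsg.Lib.J4Maximal.P43
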